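import Mathlib
import Groth.Agent.LocFFLib.Norm
import Groth.Agent.S9674
import Groth.Agent.S0566
import Groth.Agent.S9833

/-! Nagata integral schemes and their normalizations. -/

set_option autoImplicit false
set_option backward.isDefEq.respectTransparency false
universe u

open AlgebraicGeometry CategoryTheory TopologicalSpace

namespace ModifLib

/-- A scheme locally of finite type over a Nagata scheme is Nagata. -/
theorem isNagata_affineOpens {X Y : Scheme.{u}} (f : X ⟶ Y) [LocallyOfFiniteType f]
    (hY : ∀ U : Y.affineOpens, CAlg.IsNagata Γ(Y, U.1)) (V : X.affineOpens) : CAlg.IsNagata Γ(X, V.1) := by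
  have h : ∀ x : X, ∃ W : X.Opens, x ∈ W ∧ IsAffineOpen W ∧ CAlg.IsNagata Γ(X, W) := fun x => by
    obtain ⟨U, hU, hxU, -⟩ := exists_isAffineOpen_mem_and_subset (x := f x) (U := ⊤) trivial
    obtain ⟨W, hW, hxW, hWU⟩ := exists_isAffineOpen_mem_and_subset (x := x) (U := f ⁻¹ᵁ U) hxU
    letI := (f.appLE U W hWU).hom.toAlgebra
    haveI : Algebra.FiniteType Γ(Y, U) Γ(X, W) := f.finiteType_appLE hU hW hWU
    exact ⟨W, hxW, hW, Groth.Agent.S0566.result Γ(Y, U) (hY ⟨U, hU⟩) Γ(X, W)⟩
  choose W hxW hW hN using h
  exact Groth.Agent.S9833.result X W (top_le_iff.1 fun x _ => Opens.mem_iSup.2 ⟨x, hxW x⟩) hW hN V.1 V.2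

variable (X : Scheme.{u}) [IsIntegral X] [QuasiCompact (X.fromSpecStalk (genericPoint X))]
  [QuasiSeparated (X.fromSpecStalk (genericPoint X))]

theorem isFinite_normalizationι (hN : ∀ U : X.affineOpens, CAlg.IsNagata Γ(X, U.1)) :
    IsFinite (Curv2.normalizationι X) := by
  haveI : Subsingleton (Spec X.functionField) :=
    inferInstanceAs (Subsingleton (PrimeSpectrum X.functionField))
  refine Groth.Agent.S9674.result (X.fromSpecStalk (genericPoint X)) hN (locallyFinite_of_finite _) fun x _ => ?_
  have hs : Function.Surjective ((X.fromSpecStalk (genericPoint X)).residueFieldMap x).hom := fun z => by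
    obtain ⟨b, rfl⟩ := (Spec X.functionField).residue_surjective x z
    obtain ⟨a, rfl⟩ := (X.fromSpecStalk (genericPoint X)).stalkMap_surjective x b
    exact ⟨(X.residue _).hom a,
      congr($(Scheme.residue_residueFieldMap (X.fromSpecStalk (genericPoint X)) x).hom a)⟩
  exact RingHom.FiniteType.essFiniteType (RingHom.FiniteType.of_surjective _ hs)

/-- The normalization is an isomorphism over an affine open with normal ring of functions. -/
theorem isIso_normalizationι_restrict (V : X.affineOpens) [Nonempty V.1] (hV : IsIntegrallyClosed Γ(X, V.1)) :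
    IsIso (Curv2.normalizationι X ∣_ V.1) := by
  obtain ⟨ψ, hψ, hψc, -, -⟩ := NormDimOneLib.exists_chart X V
  haveI := functionField_isFractionRing_of_isAffineOpen X V.1 V.2
  have hb : Function.Bijective ((Curv2.normalizationι X).app V.1).hom := by
    constructor
    · intro a b hab
      apply X.germToFunctionField_injective V.1
      exact (hψc a).symm.trans ((congrArg ψ hab).trans (hψc b))
    · intro z
      letI := ((Curv2.normalizationι X).app V.1).hom.toAlgebra
      have hz : IsIntegral Γ(X, V.1) z :=
        (Curv2.normalizationι X).isIntegral_app V.1 V.2 z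
      have hψz : IsIntegral Γ(X, V.1) (ψ z) := by
        obtain ⟨p, hp, hpz⟩ := hz
        refine ⟨p, hp, ?_⟩
        have := congrArg ψ hpz
        rw [map_zero, Polynomial.hom_eval₂] at this
        have e : ψ.comp (algebraMap Γ(X, V.1) Γ(Curv2.normalization X, Curv2.normalizationι X ⁻¹ᵁ V.1)) =
            algebraMap Γ(X, V.1) X.functionField := RingHom.ext hψc
        rwa [e] at this
      obtain ⟨a, ha⟩ := IsIntegrallyClosed.isIntegral_iff.1 hψz
      exact ⟨a, hψ ((hψc a).trans ha)⟩
  haveI : IsAffine (V.1 : Scheme.{u}) := V.2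
  haveI : IsAffine ((Curv2.normalizationι X) ⁻¹ᵁ V.1 : Scheme.{u}) := V.2.preimage _
  haveI : IsIso ((Curv2.normalizationι X).app V.1) := (ConcreteCategory.isIso_iff_bijective _).2 hb
  haveI : IsIso ((Curv2.normalizationι X ∣_ V.1).appTop) := by
    rw [morphismRestrict_appTop]
    haveI : IsIso ((Curv2.normalizationι X).app (V.1.ι ''ᵁ ⊤)) := by
      rw [Scheme.Opens.ι_image_top]; infer_instance
    infer_instance
  let g := Curv2.normalizationι X ∣_ V.1
  have e : g = (Scheme.isoSpec _).hom ≫ Spec.map g.appTop ≫ (Scheme.isoSpec _).inv := by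
    rw [← Category.assoc, Scheme.isoSpec_hom_naturality, Category.assoc, Iso.hom_inv_id, Category.comp_id]
  show IsIso g
  haveI : IsIso g.appTop := ‹_›
  rw [e]
  infer_instance

end ModifLib
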