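import Mathlib
import Groth.Agent.ModifLib.Norm
import Groth.Agent.AmpleDevLib.Components

/-! Two modifications of a normal affine scheme are dominated by a normal one. -/

set_option autoImplicit false
set_option backward.isDefEq.respectTransparency false
universe u

open AlgebraicGeometry CategoryTheory CategoryTheory.Limits TopologicalSpace

namespace ModifLib

theorem isIso_restrict_of_le {X S : Scheme.{u}} (f : X ⟶ S) {U D : S.Opens} (h : D ≤ U) [IsIso (f ∣_ U)] :
    IsIso (f ∣_ D) := by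
  have h1 : IsPullback (f ∣_ D) (X.homOfLE (f.preimage_mono h)) (S.homOfLE h) (f ∣_ U) := by
    refine IsPullback.of_bot ?_ ?_ (isPullback_morphismRestrict f U)
    · simpa using isPullback_morphismRestrict f D
    · rw [← cancel_mono U.ι]; simp
  exact MorphismProperty.of_isPullback (P := MorphismProperty.isomorphisms Scheme.{u}) h1.flip
    (inferInstanceAs (IsIso (f ∣_ U)))

theorem isIso_pullback_restrict {X₁ X₂ S : Scheme.{u}} (f₁ : X₁ ⟶ S) (f₂ : X₂ ⟶ S) {D : S.Opens}
    [IsIso (f₁ ∣_ D)] [IsIso (f₂ ∣_ D)] : IsIso ((pullback.snd f₁ f₂ ≫ f₂) ∣_ D) := by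
  rw [morphismRestrict_comp]
  have hA : IsPullback ((f₂ ⁻¹ᵁ D).ι) (𝟙 _) (𝟙 X₂) ((f₂ ⁻¹ᵁ D).ι) := IsPullback.of_vert_isIso ⟨by simp⟩
  let P₂ := (pullback.snd f₁ f₂) ∣_ (f₂ ⁻¹ᵁ D)
  have hB : IsPullback P₂ ((pullback.snd f₁ f₂ ⁻¹ᵁ (f₂ ⁻¹ᵁ D)).ι ≫ pullback.fst f₁ f₂)
      ((f₂ ∣_ D) ≫ D.ι) f₁ := by
    rw [morphismRestrict_ι]
    exact (isPullback_morphismRestrict _ _).paste_vert (IsPullback.of_hasPullback f₁ f₂).flip
  let l : _ ⟶ (f₁ ⁻¹ᵁ D : Scheme.{u}) := (isPullback_morphismRestrict f₁ D).lift (P₂ ≫ (f₂ ∣_ D))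
    ((pullback.snd f₁ f₂ ⁻¹ᵁ (f₂ ⁻¹ᵁ D)).ι ≫ pullback.fst f₁ f₂) (by
      rw [Category.assoc]; exact hB.w)
  have hC : IsPullback P₂ l (f₂ ∣_ D) (f₁ ∣_ D) :=
    IsPullback.of_bot (by rw [IsPullback.lift_snd]; exact hB)
      ((isPullback_morphismRestrict f₁ D).lift_fst _ _ _).symm (isPullback_morphismRestrict f₁ D)
  haveI : IsIso P₂ := MorphismProperty.of_isPullback (P := MorphismProperty.isomorphisms Scheme.{u}) hC.flip
    (inferInstanceAs (IsIso (f₁ ∣_ D)))
  infer_instance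

/-- An open on which the map to an integral scheme is an isomorphism closes up to an integral closed
subscheme with the same property. -/
theorem exists_integral_closure {P S : Scheme.{u}} [IsIntegral S] (q : P ⟶ S) (D : S.Opens) [Nonempty D]
    [IsIso (q ∣_ D)] : ∃ (Y : Scheme.{u}) (c : Y ⟶ P), IsClosedImmersion c ∧ IsIntegral Y ∧ IsIso ((c ≫ q) ∣_ D) := by
  let W := q ⁻¹ᵁ D
  haveI : IrreducibleSpace (D : Scheme.{u}) := inferInstance
  haveI : Nonempty W := ⟨inv (q ∣_ D) (Classical.arbitrary D)⟩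
  haveI : IsIntegral (W : Scheme.{u}) := AlgebraicGeometry.isIntegral_of_isOpenImmersion (q ∣_ D)
  have hirr : IsIrreducible (closure (W : Set P)) := by
    have := ((irreducibleSpace_def _).1 (inferInstance : IrreducibleSpace (W : Scheme.{u}))).image W.ι W.ι.continuous.continuousOn
    rw [Set.top_eq_univ, Set.image_univ, Scheme.Opens.range_ι] at this
    exact this.closure
  let Z : Closeds P := ⟨closure (W : Set P), isClosed_closure⟩
  let c := (Scheme.IdealSheafData.vanishingIdeal Z).subschemeι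
  haveI := AmpleDevLib.isIntegral_vanishingIdeal Z hirr
  refine ⟨_, c, inferInstance, this, ?_⟩
  rw [morphismRestrict_comp]
  haveI : IsClosedImmersion (c ∣_ W) :=
    MorphismProperty.of_isPullback (isPullback_morphismRestrict c W).flip (inferInstanceAs (IsClosedImmersion c))
  haveI : Surjective (c ∣_ W) := ⟨fun w => by
    obtain ⟨y, hy⟩ : w.1 ∈ Set.range c := by
      rw [Scheme.IdealSheafData.range_subschemeι, Scheme.IdealSheafData.coe_support_vanishingIdeal]
      exact subset_closure w.2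
    exact ⟨⟨y, show c y ∈ W from hy ▸ w.2⟩, Subtype.ext ((morphismRestrict_base_coe c W _).trans hy)⟩⟩
  haveI : IsIso (c ∣_ q ⁻¹ᵁ D) := isIso_of_isClosedImmersion_of_surjective (c ∣_ W)
  infer_instance

end ModifLib
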