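import Mathlib
import Groth.Agent.EulerRpushLib.Main

/-! The low Leray sequence for modules over an affine base, in lengths. -/

set_option autoImplicit false
set_option backward.isDefEq.respectTransparency false
set_option maxHeartbeats 1000000
universe u

open CategoryTheory CategoryTheory.Limits AlgebraicGeometry TopologicalSpace Opposite
open QCohLib (toAbF)
open EulerRpushLib (cycSeq cycSeq_shortExact nonempty_cokernel_iso_rpush IsAcyclic)

noncomputable section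

namespace ModifLib

variable {A : Type u} [CommRing A] {X Y : Scheme.{u}}
  [X.Over (Spec (CommRingCat.of A))] [Y.Over (Spec (CommRingCat.of A))]

def hL {M N : X.Modules} (φ : M ⟶ N) (p : ℕ) : Coh.HH X M p →ₗ[A] Coh.HH X N p :=
  AtlasCoh.hLin (X ↘ Spec (CommRingCat.of A)) φ p

def dL {S : ShortComplex X.Modules} (hS : S.ShortExact) (p : ℕ) : Coh.HH X S.X₃ p →ₗ[A] Coh.HH X S.X₁ (p + 1) :=
  AtlasCoh.δLin hS (X ↘ Spec (CommRingCat.of A)) p

theorem hL_comp {L M N : X.Modules} (φ : M ⟶ N) (ψ : N ⟶ L) (p : ℕ) (x : Coh.HH X M p) :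
    hL (A := A) (φ ≫ ψ) p x = hL (A := A) ψ p (hL (A := A) φ p x) := by
  show Sheaf.H.map ((toAbF X).map (φ ≫ ψ)) p x = _
  rw [Functor.map_comp, Sheaf.H.map_comp_apply]; rfl

def hLIso {M N : X.Modules} (e : M ≅ N) (p : ℕ) : Coh.HH X M p ≃ₗ[A] Coh.HH X N p :=
  LinearEquiv.ofBijective (hL e.hom p)
    ⟨fun x y h => by
      have h' := congrArg (hL (A := A) e.inv p) h
      rw [← hL_comp, ← hL_comp, e.hom_inv_id] at h'
      have h'' : Sheaf.H.map ((toAbF X).map (𝟙 M)) p x = Sheaf.H.map ((toAbF X).map (𝟙 M)) p y := h'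
      rwa [CategoryTheory.Functor.map_id, Sheaf.H.map_id_apply, Sheaf.H.map_id_apply] at h'',
    fun y => ⟨hL (A := A) e.inv p y, by
      rw [← hL_comp, e.inv_hom_id]
      show Sheaf.H.map ((toAbF X).map (𝟙 N)) p y = y
      rw [CategoryTheory.Functor.map_id, Sheaf.H.map_id_apply]⟩⟩

/-- `H⁰` is the module of global sections. -/
def h0Sec (M : X.Modules) : Coh.HH X M 0 ≃+ Γ(M, ⊤) :=
  (QCohLib.hEquiv ((toAbF X).obj M) 0).trans (QCohLib.h0 (U := (⊤ : Opens X.toTopCat)))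

theorem h0Sec_map {M N : X.Modules} (g : M ⟶ N) (x : Coh.HH X M 0) :
    h0Sec N (hL (A := A) g 0 x) = g.app ⊤ (h0Sec M x) := by
  change QCohLib.h0 (QCohLib.hEquiv _ 0 (Sheaf.H.map ((toAbF X).map g) 0 x)) = _
  rw [QCohLib.hEquiv_map, QCohLib.h0_comp]
  rfl

theorem h0Sec_smul (M : X.Modules) (c : A) (x : Coh.HH X M 0) :
    h0Sec M (c • x) = (show Γ(X, ⊤) from Coh.toGlobal (X ↘ Spec (CommRingCat.of A)) c) • h0Sec M x := by
  change QCohLib.h0 (QCohLib.hEquiv ((toAbF X).obj M) 0 (Sheaf.H.map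
    (Coh.smulAb M (Coh.toGlobal (X ↘ Spec (CommRingCat.of A)) c)) 0 x)) = _
  refine (congrArg QCohLib.h0 (QCohLib.hEquiv_map
    (Coh.smulAb M (Coh.toGlobal (X ↘ Spec (CommRingCat.of A)) c)) 0 x)).trans ?_
  refine (QCohLib.h0_comp _ _).trans ?_
  change (Coh.smulAb M _).hom.app (op ⊤) _ = _
  rw [Coh.smulAb_app]
  refine congrArg (fun r : Γ(X, ⊤) => r • (show Γ(M, ⊤) from
    QCohLib.h0 (QCohLib.hEquiv ((toAbF X).obj M) 0 x))) ?_
  exact congr($(X.ringCatSheaf.obj.map_id (op ⊤)) _)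

variable (f : Y ⟶ X) (hf : f ≫ (X ↘ Spec (CommRingCat.of A)) = Y ↘ Spec (CommRingCat.of A))

def pH0 (M : Y.Modules) : Coh.HH X ((Coh.push f).obj M) 0 ≃ₗ[A] Coh.HH Y M 0 :=
  { ((h0Sec ((Coh.push f).obj M)).trans ((AddEquiv.refl Γ(M, ⊤) :) : Γ((Coh.push f).obj M, ⊤) ≃+ Γ(M, ⊤))).trans
      (h0Sec M).symm with
    map_smul' := fun c x => by
      apply (h0Sec M).injective
      have hc : f.app ⊤ (Coh.toGlobal (X ↘ (Spec (CommRingCat.of A))) c) =
          Coh.toGlobal (Y ↘ (Spec (CommRingCat.of A))) c := by rw [← hf]; rfl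
      refine ((h0Sec M).apply_symm_apply _).trans ?_
      refine Eq.trans ?_ (h0Sec_smul M c _).symm
      refine (h0Sec_smul ((Coh.push f).obj M) c x).trans ?_
      refine Eq.trans ?_ (congrArg (_ • ·) ((h0Sec M).apply_symm_apply _).symm)
      exact congrArg (fun t : Γ(Y, ⊤) => t • (show Γ(M, ⊤) from h0Sec ((Coh.push f).obj M) x)) hc }

theorem pH0_natural {M N : Y.Modules} (g : M ⟶ N) (x : Coh.HH X ((Coh.push f).obj M) 0) :
    hL (A := A) g 0 (pH0 f hf M x) = pH0 f hf N (hL (A := A) ((Coh.push f).map g) 0 x) := by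
  apply (h0Sec N).injective
  refine (h0Sec_map (A := A) g _).trans ?_
  refine Eq.trans ?_ ((h0Sec N).apply_symm_apply _).symm
  refine (congrArg (g.app ⊤) ((h0Sec M).apply_symm_apply _)).trans ?_
  exact (h0Sec_map (A := A) ((Coh.push f).map g) x).symm

include hf in
/-- One step, when the direct image has no cohomology in degree two. -/
theorem length_step {S : ShortComplex Y.Modules} (hS : S.ShortExact) (h2 : IsAcyclic S.X₂)
    (h2' : IsAcyclic ((Coh.push f).obj S.X₂)) (hp2 : Subsingleton (Coh.HH X ((Coh.push f).obj S.X₁) 2)) :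
    Module.length A (Coh.HH Y S.X₁ 1) = Module.length A (Coh.HH X ((Coh.push f).obj S.X₁) 1) +
        Module.length A (Coh.HH X (cokernel ((Coh.push f).map S.g)) 0) ∧
      ∃ π : Coh.HH Y S.X₁ 1 →ₗ[A] Coh.HH X (cokernel ((Coh.push f).map S.g)) 0, Function.Surjective π := by
  haveI : PreservesFiniteLimits (Coh.push f) :=
    have : PreservesLimitsOfSize.{u, u} (Coh.push f) :=
      (Scheme.Modules.pullbackPushforwardAdjunction f).rightAdjoint_preservesLimits
    inferInstance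
  let φ : (Coh.push f).obj S.X₂ ⟶ (Coh.push f).obj S.X₃ := (Coh.push f).map S.g
  obtain ⟨hex, hmono⟩ :=
    (Functor.preservesFiniteLimits_iff_forall_exact_map_and_mono (Coh.push f)).mp inferInstance S hS
  haveI : Mono (S.map (Coh.push f)).f := hmono
  let e₁ : (Coh.push f).obj S.X₁ ≅ kernel φ :=
    hex.fIsKernel.conePointUniqueUpToIso (limit.isLimit (parallelPair φ 0))
  let a := DevissLib.kerImSeq φ
  have ha : a.ShortExact := DevissLib.kerImSeq_shortExact φ
  let b := DevissLib.imCokSeq φ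
  have hb : b.ShortExact := DevissLib.imCokSeq_shortExact φ
  have ea₃ : ∀ x, dL (A := A) ha 0 x = 0 → ∃ w, hL (A := A) a.g 0 w = x :=
    fun x hx => AtlasCoh.hExact₃ (QCohLib.toAbF_shortExact ha) 0 x hx
  have zero₃ : ∀ {Z : Scheme.{u}} [Z.Over (Spec (CommRingCat.of A))] {T : ShortComplex Z.Modules} (hT : T.ShortExact)
      (p : ℕ) (x : Coh.HH Z T.X₂ p), dL (A := A) hT p (hL (A := A) T.g p x) = 0 := fun hT p x =>
    (Abelian.Ext.comp_assoc_of_second_deg_zero ..).trans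
      ((congrArg (fun e => Abelian.Ext.comp x e rfl) (QCohLib.toAbF_shortExact hT).comp_extClass).trans
        (Abelian.Ext.comp_zero ..))
  let ψ : Coh.HH X b.X₂ 0 →ₗ[A] Coh.HH Y S.X₁ 1 :=
    (dL (A := A) hS 0).comp (pH0 f hf S.X₃).toLinearMap
  have hψ : Function.Surjective ψ := by
    intro y
    haveI := h2 0
    obtain ⟨w, hw⟩ := AtlasCoh.hExact₁ (QCohLib.toAbF_shortExact hS) 0 y
      (Subsingleton.elim (α := Coh.HH Y S.X₂ 1) _ _)
    obtain ⟨z, rfl⟩ := (pH0 f hf S.X₃).surjective w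
    exact ⟨z, hw⟩
  have hφ : ∀ x : Coh.HH X a.X₂ 0, hL (A := A) b.f 0 (hL (A := A) a.g 0 x) = hL (A := A) φ 0 x := fun x => by
    rw [← hL_comp]
    exact congrArg (fun g => hL (A := A) g 0 x) (Abelian.image.fac φ)
  have hψker : ∀ z, ψ z = 0 ↔ ∃ x, hL (A := A) φ 0 x = z := fun z => by
    constructor
    · intro hz
      obtain ⟨y, hy⟩ := AtlasCoh.hExact₃ (QCohLib.toAbF_shortExact hS) 0 _ hz
      obtain ⟨x, rfl⟩ := (pH0 f hf S.X₂).surjective y
      exact ⟨x, (pH0 f hf S.X₃).injective ((pH0_natural f hf S.g x).symm.trans hy)⟩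
    · rintro ⟨x, rfl⟩
      show dL (A := A) hS 0 (pH0 f hf S.X₃ (hL (A := A) φ 0 x)) = 0
      rw [← pH0_natural f hf S.g x]
      exact zero₃ hS 0 _
  let θ : Coh.HH X b.X₁ 0 →ₗ[A] Coh.HH Y S.X₁ 1 := ψ.comp (hL (A := A) b.f 0)
  have hθ : LinearMap.ker θ = LinearMap.ker (dL (A := A) ha 0) := by
    ext w
    rw [LinearMap.mem_ker, LinearMap.mem_ker]
    refine (hψker _).trans ⟨fun ⟨x, hx⟩ => ?_, fun hw => ?_⟩
    · have : hL (A := A) a.g 0 x = w := AtlasCoh.hMap_injective (QCohLib.toAbF_shortExact hb) ((hφ x).trans hx)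
      rw [← this]; exact zero₃ ha 0 x
    · obtain ⟨x, rfl⟩ := ea₃ w hw
      exact ⟨x, (hφ x).symm⟩
  have hδa : Function.Surjective (dL (A := A) ha 0) := fun y => by
    haveI := h2' 0
    exact AtlasCoh.hExact₁ (QCohLib.toAbF_shortExact ha) 0 y (Subsingleton.elim (α := Coh.HH X ((Coh.push f).obj S.X₂) 1) _ _)
  let E1 : LinearMap.range θ ≃ₗ[A] Coh.HH X (kernel φ) 1 :=
    θ.quotKerEquivRange.symm ≪≫ₗ Submodule.quotEquivOfEq _ _ hθ ≪≫ₗ
      (dL (A := A) ha 0).quotKerEquivOfSurjective hδa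
  haveI : Subsingleton (Coh.HH X (kernel φ) 2) := (hLIso (A := A) e₁ 2).symm.toEquiv.subsingleton
  haveI hb1 : Subsingleton (Coh.HH X b.X₁ 1) := by
    haveI := h2' 0
    refine subsingleton_of_forall_eq 0 fun x => ?_
    obtain ⟨y, hy⟩ := AtlasCoh.hExact₃ (QCohLib.toAbF_shortExact ha) 1 x (Subsingleton.elim (α := Coh.HH X (kernel φ) 2) _ _)
    rw [← hy, Subsingleton.elim (α := Coh.HH X ((Coh.push f).obj S.X₂) 1) y 0, map_zero]
  let g := hL (A := A) b.g 0
  have hg : Function.Surjective g := fun y =>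
    AtlasCoh.hExact₃ (QCohLib.toAbF_shortExact hb) 0 y (Subsingleton.elim (α := Coh.HH X b.X₁ 1) _ _)
  let π := (LinearMap.range θ).mkQ.comp ψ
  have hπ : LinearMap.ker π = LinearMap.ker g := by
    ext z
    rw [LinearMap.mem_ker, LinearMap.mem_ker, LinearMap.comp_apply, Submodule.mkQ_apply, Submodule.Quotient.mk_eq_zero]
    refine ⟨fun ⟨w, hw⟩ => ?_, fun hz => ?_⟩
    · obtain ⟨x, hx⟩ := (hψker (z - hL (A := A) b.f 0 w)).mp (by
        rw [map_sub]; exact sub_eq_zero.mpr hw.symm)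
      have hz : z = hL (A := A) b.f 0 (hL (A := A) a.g 0 x + w) := by rw [map_add, hφ, hx, sub_add_cancel]
      rw [hz, ← hL_comp, b.zero]
      show Sheaf.H.map ((toAbF X).map 0) 0 _ = 0
      rw [Functor.map_zero]
      exact (congrArg (fun e => Abelian.Ext.comp _ e (add_zero 0)) (Abelian.Ext.mk₀_zero _ _)).trans
        (Abelian.Ext.comp_zero ..)
    · obtain ⟨w, hw⟩ := AtlasCoh.hExact₂ (QCohLib.toAbF_shortExact hb) 0 z hz
      exact ⟨w, congrArg ψ hw⟩
  let E2 : (Coh.HH Y S.X₁ 1 ⧸ LinearMap.range θ) ≃ₗ[A] Coh.HH X b.X₃ 0 :=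
    (π.quotKerEquivOfSurjective ((Submodule.mkQ_surjective _).comp hψ)).symm ≪≫ₗ
      Submodule.quotEquivOfEq _ _ hπ ≪≫ₗ g.quotKerEquivOfSurjective hg
  refine ⟨?_, E2.toLinearMap.comp (LinearMap.range θ).mkQ, E2.surjective.comp (Submodule.mkQ_surjective _)⟩
  rw [Module.length_eq_add_of_exact (LinearMap.range θ).subtype (LinearMap.range θ).mkQ
    (Submodule.subtype_injective _) (Submodule.mkQ_surjective _) (LinearMap.exact_subtype_mkQ _),
    E1.length_eq, E2.length_eq, (hLIso (A := A) e₁ 1).length_eq]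

include hf in
/-- `0 → H¹(f_*G) → H¹(G) → H⁰(R¹f_*G) → 0` in lengths. -/
theorem length_leray [HasInjectiveResolutions Y.Modules] (G : Y.Modules)
    (hp2 : Subsingleton (Coh.HH X ((Coh.push f).obj G) 2)) :
    Module.length A (Coh.HH Y G 1) = Module.length A (Coh.HH X ((Coh.push f).obj G) 1) +
      Module.length A (Coh.HH X ((Coh.Rpush f 1).obj G) 0) := by
  let I := injectiveResolution G
  let e0 : (cycSeq I 0).X₁ ≅ G :=
    (kernelIsKernel _).conePointUniqueUpToIso I.isLimitKernelFork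
  have hY : IsAcyclic (cycSeq I 0).X₂ :=
    haveI := RpushLib.isFlasque_toAb_injective (I.cocomplex.X 0)
    EulerRpushLib.isAcyclic_of_isFlasque _
  have hX : IsAcyclic ((Coh.push f).obj (cycSeq I 0).X₂) :=
    haveI := EulerRpushLib.isFlasque_push f (I.cocomplex.X 0)
    EulerRpushLib.isAcyclic_of_isFlasque _
  have h := (length_step f hf (cycSeq_shortExact I 0) hY hX
    (hLIso (A := A) ((Coh.push f).mapIso e0) 2).toEquiv.subsingleton).1
  obtain ⟨r⟩ := nonempty_cokernel_iso_rpush f I 0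
  rw [(hLIso (A := A) e0 1).length_eq, (hLIso (A := A) ((Coh.push f).mapIso e0) 1).length_eq,
    (hLIso (A := A) r 0).length_eq] at h
  exact h

end ModifLib
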