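import Mathlib
import Groth.Agent.DimFibreLib.Main
import Groth.Agent.DimIneqLib.Scheme
import Groth.Agent.FibVanLib.General

/-! Modifications of a local scheme: dimension of the source and of the closed fibre. -/

set_option autoImplicit false
set_option backward.isDefEq.respectTransparency false
universe u

open AlgebraicGeometry CategoryTheory TopologicalSpace

namespace ModifLib

variable {X S : Scheme.{u}} (f : X ⟶ S) [IsIntegral X]

/-- The generic point lies over every non-empty open over which the map is an isomorphism. -/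
theorem genericPoint_mem {U : S.Opens} (hU : (U : Set S).Nonempty) [IsIso (f ∣_ U)] :
    genericPoint X ∈ f ⁻¹ᵁ U := by
  obtain ⟨s, hs⟩ := hU
  refine ((genericPoint_spec X).mem_open_set_iff (f ⁻¹ᵁ U).2).2 ?_
  obtain ⟨x, -⟩ := (f ∣_ U).homeomorph.surjective ⟨s, hs⟩
  exact ⟨x.1, trivial, x.2⟩

theorem isIso_stalkMap_genericPoint {U : S.Opens} (hU : (U : Set S).Nonempty) [IsIso (f ∣_ U)] :
    IsIso (f.stalkMap (genericPoint X)) :=
  ((MorphismProperty.isomorphisms CommRingCat.{u}).arrow_mk_iso_iff
    (morphismRestrictStalkMap f U ⟨genericPoint X, genericPoint_mem f hU⟩)).1 (inferInstanceAs (IsIso _))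

theorem map_genericPoint [IsIntegral S] {U : S.Opens} (hU : (U : Set S).Nonempty) [IsIso (f ∣_ U)] :
    f (genericPoint X) = genericPoint S := by
  refine (Specializes.antisymm (genericPoint_specializes (f (genericPoint X))) ?_).eq.symm
  obtain ⟨x, hx⟩ := (f ∣_ U).homeomorph.surjective
    ⟨genericPoint S, (genericPoint_spec S).mem_open_set_iff U.2 |>.2 (by simpa using hU)⟩
  have h : f x.1 = genericPoint S := (morphismRestrict_base_coe f U x).symm.trans (congrArg Subtype.val hx)
  rw [← h]
  exact (genericPoint_specializes x.1).map f.continuous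

theorem stalk_dim_le [IsIntegral S] [IsLocallyNoetherian S] [LocallyOfFiniteType f]
    {U : S.Opens} (hU : (U : Set S).Nonempty) [IsIso (f ∣_ U)] (x : X) :
    ringKrullDim (X.presheaf.stalk x) ≤ ringKrullDim (S.presheaf.stalk (f x)) := by
  obtain ⟨ξ, hmax, hξx, h⟩ := DimIneqLib.stalk_le f x
  obtain rfl : genericPoint X = ξ := hmax _ (genericPoint_specializes ξ)
  haveI := isIso_stalkMap_genericPoint f hU
  have hb : Function.Surjective (f.residueFieldMap (genericPoint X)).hom := by
    have h2 : Function.Surjective ((f.stalkMap (genericPoint X) ≫ X.residue (genericPoint X)).hom) :=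
      (X.residue_surjective _).comp
        (ConcreteCategory.bijective_of_isIso (f.stalkMap (genericPoint X))).2
    rw [← Scheme.residue_residueFieldMap] at h2
    exact fun z => let ⟨w, hw⟩ := h2 z; ⟨(S.residue (f (genericPoint X))).hom w, hw⟩
  have h0 : DimIneqLib.trH (f.residueFieldMap (genericPoint X)).hom ≤ ((0 : ℕ) : ℕ∞) := by
    apply DimIneqLib.trH_natCast_le
    letI := (f.residueFieldMap (genericPoint X)).hom.toAlgebra
    haveI : Algebra.IsAlgebraic (S.residueField (f (genericPoint X))) (X.residueField (genericPoint X)) :=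
      ⟨fun z => by obtain ⟨w, rfl⟩ := hb z; exact isAlgebraic_algebraMap w⟩
    rw [trdeg_eq_zero]
    simp
  rw [le_antisymm (h0.trans (by simp)) zero_le] at h
  refine le_trans (le_trans (le_add_of_nonneg_right ?_) h) (by simp)
  exact_mod_cast zero_le

theorem dim_source_le [IsIntegral S] [IsLocallyNoetherian S] [LocallyOfFiniteType f]
    {U : S.Opens} (hU : (U : Set S).Nonempty) [IsIso (f ∣_ U)] (b : WithBot ℕ∞)
    (hb : ∀ s : S, ringKrullDim (S.presheaf.stalk s) ≤ b) : topologicalKrullDim X ≤ b :=
  DimFibreLib.dim_le_of_stalks b fun x => (stalk_dim_le f hU x).trans (hb _)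

/-- A subset avoiding the generic point has smaller dimension. -/
theorem dim_le_of_genericPoint_notMem (n : ℕ) (hX : topologicalKrullDim X ≤ ((n + 1 : ℕ) : WithBot ℕ∞)) (T : Set X)
    (hTc : IsClosed T) (hT : genericPoint X ∉ T) : topologicalKrullDim T ≤ (n : WithBot ℕ∞) := by
  refine iSup_le fun l => ?_
  let l' := l.map (IrreducibleCloseds.map ((↑) : T → X) continuous_subtype_val)
    (IrreducibleCloseds.map_strictMono_of_isInducing Topology.IsInducing.subtypeVal)
  let top : IrreducibleCloseds X := ⟨Set.univ, irreducibleSpace_def X |>.1 inferInstance, isClosed_univ⟩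
  have hlt : l'.last < top := by
    refine lt_of_le_of_ne (fun x _ => trivial) fun h => hT ?_
    have hsub : (l'.last : Set X) ⊆ T :=
      closure_minimal (by rintro _ ⟨t, -, rfl⟩; exact t.2) hTc
    exact hsub (by rw [h]; exact trivial)
  have h2 := (Order.LTSeries.length_le_krullDim (l'.snoc top hlt)).trans hX
  simp only [RelSeries.snoc_length, l', LTSeries.map_length] at h2
  have : l.length + 1 ≤ n + 1 := by exact_mod_cast h2
  exact_mod_cast (show l.length ≤ n by omega)

/-- The closed fibre of a modification of a two-dimensional local domain is at most one-dimensional. -/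
theorem dim_closedFiber_le_one {A : Type u} [CommRing A] [IsDomain A] [IsLocalRing A] [IsNoetherianRing A]
    (hdim : ringKrullDim A = 2) {X : Scheme.{u}} (f : X ⟶ Spec (CommRingCat.of A)) [IsIntegral X]
    [LocallyOfFiniteType f] {U : (Spec (CommRingCat.of A)).Opens}
    (hU : (U : Set (Spec (CommRingCat.of A))).Nonempty) [IsIso (f ∣_ U)] :
    topologicalKrullDim ↥(f.fiber (IsLocalRing.closedPoint A)) ≤ (1 : ℕ) := by
  rw [IsHomeomorph.topologicalKrullDim_eq _ (f.fiberHomeo (IsLocalRing.closedPoint A)).isHomeomorph]
  refine dim_le_of_genericPoint_notMem 1 ?_ _ ((IsLocalRing.isClosed_singleton_closedPoint A).preimage f.continuous) ?_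
  · refine dim_source_le f hU _ fun s => ?_
    refine ((DimIneqLib.stalk_dim_le_dim s).trans_eq (PrimeSpectrum.topologicalKrullDim_eq_ringKrullDim _)).trans ?_
    show ringKrullDim A ≤ _
    rw [hdim]
    exact le_rfl
  · intro h
    have h1 : genericPoint (Spec (CommRingCat.of A)) = IsLocalRing.closedPoint A :=
      (map_genericPoint f hU).symm.trans h
    have hm : IsLocalRing.maximalIdeal A = ⊥ := by
      have := congrArg PrimeSpectrum.asIdeal h1
      rw [genericPoint_eq_bot_of_affine] at this
      exact this.symm
    have := IsLocalRing.isField_iff_maximalIdeal_eq.2 hm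
    rw [ringKrullDim_eq_zero_of_isField this] at hdim
    norm_num at hdim

end ModifLib
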