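import Mathlib
import Groth.Agent.ModifLib.Norm
import Groth.Agent.ModifLib.Basic
import Groth.Agent.CurvLib.Finite0
import Groth.Agent.WeightLib.Pts
import Groth.Agent.MiscFlat6.NormalLowDim
import Groth.Agent.PurBirLib.Qf
import Groth.Agent.S9690

/-! Alterations of curves and the normalization. -/

set_option autoImplicit false
set_option backward.isDefEq.respectTransparency false
universe u

open AlgebraicGeometry CategoryTheory TopologicalSpace

namespace ModifLib

theorem map_genericPoint_of_isDominant {X Y : Scheme.{u}} [IsIntegral X] [IsIntegral Y] (g : X ⟶ Y) [IsDominant g] :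
    g (genericPoint X) = genericPoint Y := by
  refine ((genericPoint_spec X).image g.continuous).eq ?_
  rw [Set.image_univ, g.denseRange.closure_range]
  exact genericPoint_spec Y

variable {X Y : Scheme.{u}} [IsIntegral X] [IsIntegral Y] (g : X ⟶ Y)

theorem dim_le_of_finite_over_open [IsLocallyNoetherian Y] [LocallyOfFiniteType g] (V : Y.Opens)
    (hη : genericPoint X ∈ g ⁻¹ᵁ V) [IsFinite (g ∣_ V)] (b : WithBot ℕ∞)
    (hb : ∀ y : Y, ringKrullDim (Y.presheaf.stalk y) ≤ b) : topologicalKrullDim X ≤ b := by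
  refine DimFibreLib.dim_le_of_stalks b fun x => ?_
  obtain ⟨ξ, hmax, -, h⟩ := DimIneqLib.stalk_le g x
  obtain rfl : genericPoint X = ξ := hmax _ (genericPoint_specializes ξ)
  haveI : LocallyQuasiFinite ((g ⁻¹ᵁ V).ι ≫ g) := by rw [← morphismRestrict_ι]; infer_instance
  have hfin := WeightLib.finite_residueFieldMap ((g ⁻¹ᵁ V).ι ≫ g) ⟨genericPoint X, hη⟩
  rw [Scheme.residueFieldMap_comp] at hfin
  have hb' : Function.Bijective ((g ⁻¹ᵁ V).ι.residueFieldMap ⟨genericPoint X, hη⟩).hom := by
    refine ⟨RingHom.injective _, fun z => ?_⟩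
    obtain ⟨b, rfl⟩ := (g ⁻¹ᵁ V : Scheme.{u}).residue_surjective _ z
    obtain ⟨a, rfl⟩ := (g ⁻¹ᵁ V).ι.stalkMap_surjective ⟨genericPoint X, hη⟩ b
    exact ⟨(X.residue _).hom a, congr($(Scheme.residue_residueFieldMap (g ⁻¹ᵁ V).ι ⟨genericPoint X, hη⟩).hom a)⟩
  have hfin' : (g.residueFieldMap (genericPoint X)).hom.Finite := by
    let e := RingEquiv.ofBijective ((g ⁻¹ᵁ V).ι.residueFieldMap ⟨genericPoint X, hη⟩).hom hb'
    have h2 := (RingHom.Finite.of_surjective e.symm.toRingHom e.symm.surjective).comp hfin
    have e' : e.symm.toRingHom.comp (g.residueFieldMap ((g ⁻¹ᵁ V).ι ⟨genericPoint X, hη⟩) ≫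
        (g ⁻¹ᵁ V).ι.residueFieldMap ⟨genericPoint X, hη⟩).hom = (g.residueFieldMap (genericPoint X)).hom :=
      RingHom.ext fun z => e.symm_apply_apply _
    exact e' ▸ h2
  have h0 : DimIneqLib.trH (g.residueFieldMap (genericPoint X)).hom ≤ ((0 : ℕ) : ℕ∞) := by
    apply DimIneqLib.trH_natCast_le
    letI := (g.residueFieldMap (genericPoint X)).hom.toAlgebra
    haveI : Module.Finite (Y.residueField (g (genericPoint X))) (X.residueField (genericPoint X)) := hfin'
    haveI : Algebra.IsAlgebraic (Y.residueField (g (genericPoint X))) (X.residueField (genericPoint X)) :=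
      Algebra.IsAlgebraic.of_finite _ _
    rw [trdeg_eq_zero]
    simp
  rw [le_antisymm (h0.trans (by simp)) zero_le] at h
  refine le_trans (le_trans (le_add_of_nonneg_right ?_) h) ((by simp : _ + _ ≤ _).trans (hb (g x)))
  exact_mod_cast zero_le

theorem isFinite_of_alteration [IsNoetherian Y] [IsProper g] [IsDominant g] (hY : topologicalKrullDim Y ≤ 1)
    (V : Y.Opens) (hV : (V : Set Y).Nonempty) [IsFinite (g ∣_ V)] : IsFinite g := by
  have hgη : g (genericPoint X) = genericPoint Y := map_genericPoint_of_isDominant g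
  have hη : genericPoint X ∈ g ⁻¹ᵁ V := by
    show g (genericPoint X) ∈ V
    rw [hgη]; exact (genericPoint_spec Y).mem_open_set_iff V.2 |>.2 (by simpa using hV)
  have hX : topologicalKrullDim X ≤ 1 := dim_le_of_finite_over_open g V hη 1 fun y =>
    (MiscFlat6.ringKrullDim_stalk_le Y y).trans hY
  haveI : CompactSpace X := QuasiCompact.compactSpace_of_compactSpace g
  haveI : IsLocallyNoetherian X := LocallyOfFiniteType.isLocallyNoetherian g
  haveI : IsNoetherian X := ⟨⟩
  haveI : LocallyQuasiFinite g := by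
    refine LocallyQuasiFinite.of_finite_preimage_singleton g fun y => ?_
    by_cases hy : y = genericPoint Y
    · have hyV : y ∈ V := hy ▸ (genericPoint_spec Y).mem_open_set_iff V.2 |>.2 (by simpa using hV)
      have hf := (g ∣_ V).finite_preimage_singleton ⟨y, hyV⟩
      refine (hf.image (g ⁻¹ᵁ V).ι).subset fun x hx => ?_
      have hxy : g x = y := hx
      have hxV : x ∈ g ⁻¹ᵁ V := show g x ∈ V by rw [hxy]; exact hyV
      exact ⟨⟨x, hxV⟩, Subtype.ext ((morphismRestrict_base_coe g V _).trans hxy), rfl⟩
    · have hc : IsClosed (g ⁻¹' closure {y}) := isClosed_closure.preimage g.continuous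
      refine (CurvLib.finite_isClosed_of_dim_le_zero hc ?_).1.subset (Set.preimage_mono subset_closure)
      refine dim_le_of_genericPoint_notMem 0 (by simpa using hX) _ hc fun h => hy ?_
      have h' : genericPoint Y ∈ closure ({y} : Set Y) := by rw [← hgη]; exact h
      exact ((specializes_iff_mem_closure.2 h').antisymm (genericPoint_specializes y)).eq
  exact (IsFinite.iff_isProper_and_locallyQuasiFinite g).2 ⟨inferInstance, inferInstance⟩

/-- A finite cover by a normal integral scheme forces finiteness of the normalization. -/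
theorem isFinite_normalizationι_of_finite [QuasiCompact (Y.fromSpecStalk (genericPoint Y))]
    [QuasiSeparated (Y.fromSpecStalk (genericPoint Y))] [IsLocallyNoetherian Y] [IsFinite g] [IsDominant g]
    (hX : Pi1.IsNormalScheme X) : IsFinite (Curv2.normalizationι Y) := by
  obtain ⟨h, hh, -⟩ := Groth.Agent.S9690.result Y g hX fun z hz => by
    have hz' : z = genericPoint X := by
      have e : closure ({z} : Set X) = Set.univ := by
        rw [irreducibleComponents_eq_singleton] at hz; exact hz
      exact IsGenericPoint.eq e (genericPoint_spec X)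
    subst hz'
    exact map_genericPoint_of_isDominant g
  haveI : IsDominant (h ≫ Curv2.normalizationι Y) := by rw [hh]; infer_instance
  haveI : QuasiCompact h := by
    haveI : QuasiCompact (h ≫ Curv2.normalizationι Y) := by rw [hh]; infer_instance
    exact QuasiCompact.of_comp h (Curv2.normalizationι Y)
  haveI : IsDominant h := by
    refine ⟨?_⟩
    have hg : h (genericPoint X) = genericPoint (Curv2.normalization Y) := by
      refine PurBirLib.eq_generic_of_map_generic _ (LocFFLib.normalization_bir Y) ?_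
      rw [← Scheme.Hom.comp_apply]
      exact map_genericPoint_of_isDominant _
    refine Dense.mono (Set.singleton_subset_iff.2 ⟨_, hg⟩) ?_
    exact dense_iff_closure_eq.2 (genericPoint_spec _)
  haveI := IsSchemeTheoreticallyDominant.of_isDominant h
  refine IsFinite.mk (fun U hU => ?_)
  haveI : IsNoetherianRing Γ(Y, U) := IsLocallyNoetherian.component_noetherian ⟨U, hU⟩
  subst hh
  have hgf := IsFinite.finite_app (f := h ≫ Curv2.normalizationι Y) U hU
  rw [Scheme.Hom.comp_app] at hgf
  letI := ((Curv2.normalizationι Y).app U).hom.toAlgebra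
  letI := ((Curv2.normalizationι Y).app U ≫ h.app ((Curv2.normalizationι Y) ⁻¹ᵁ U)).hom.toAlgebra
  haveI : Module.Finite Γ(Y, U) Γ(X, h ⁻¹ᵁ ((Curv2.normalizationι Y) ⁻¹ᵁ U)) := hgf
  exact Module.Finite.of_injective
    ({ (h.app ((Curv2.normalizationι Y) ⁻¹ᵁ U)).hom with commutes' := fun r => rfl } :
      Γ(Curv2.normalization Y, (Curv2.normalizationι Y) ⁻¹ᵁ U) →ₐ[Γ(Y, U)] Γ(X, h ⁻¹ᵁ ((Curv2.normalizationι Y) ⁻¹ᵁ U))).toLinearMap
    (h.app_injective _)

end ModifLib
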