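import Mathlib
import Groth.Agent.ModifLib.Basic
import Groth.Agent.CurvLib.Finite0
import Groth.Agent.FibVanLib.Noeth

/-! The points of the base over which a morphism from a surface has positive-dimensional fibres. -/

set_option autoImplicit false
set_option backward.isDefEq.respectTransparency false
universe u

open CategoryTheory CategoryTheory.Limits AlgebraicGeometry TopologicalSpace

namespace ModifLib

/-- A sober T0 space without proper specialisations has dimension `≤ 0`. -/
theorem dim_le_zero_of_forall_eq {α : Type*} [TopologicalSpace α] [QuasiSober α]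
    (h : ∀ a b : α, a ⤳ b → a = b) : topologicalKrullDim α ≤ 0 := by
  refine Order.krullDim_nonpos_iff_forall_isMax.2 fun Z Z' hle => ?_
  obtain ⟨z, hz⟩ := QuasiSober.sober Z.isIrreducible Z.isClosed
  obtain ⟨z', hz'⟩ := QuasiSober.sober Z'.isIrreducible Z'.isClosed
  have hs : z' ⤳ z := hz'.specializes (hle hz.mem)
  obtain rfl := h _ _ hs
  intro w hw
  have : w ∈ (Z' : Set α) := hw
  rw [← hz'.def, hz.def] at this
  exact this

theorem length_spec_le {X : Type*} [TopologicalSpace X] [T0Space X] {a b c d : X} (hab : a ⤳ b) (hab' : a ≠ b)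
    (hbc : b ⤳ c) (hbc' : b ≠ c) (hcd : c ⤳ d) (hcd' : c ≠ d) :
    (3 : WithBot ℕ∞) ≤ topologicalKrullDim X := by
  let cl : X → IrreducibleCloseds X := fun x => ⟨closure {x}, isIrreducible_singleton.closure, isClosed_closure⟩
  have hlt : ∀ {x y : X}, x ⤳ y → x ≠ y → cl y < cl x := fun {x y} h h' =>
    lt_of_le_not_ge (fun w hw => closure_minimal (Set.singleton_subset_iff.2 h.mem_closure) isClosed_closure hw)
      (fun hle => h' (h.antisymm (specializes_iff_mem_closure.2 (hle (subset_closure rfl)))).eq)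
  let l : LTSeries (IrreducibleCloseds X) :=
    (((RelSeries.singleton _ (cl d)).snoc (cl c) (hlt hcd hcd')).snoc (cl b) (by simpa using hlt hbc hbc')).snoc (cl a)
      (by simpa using hlt hab hab')
  exact le_trans (by simp [l]) (Order.LTSeries.length_le_krullDim l)

variable {X X' S : Scheme.{u}} [IsIntegral X'] (g : X' ⟶ X) (f : X ⟶ S) [IsProper g]

/-- The points with a positive-dimensional fibre are finitely many closed points. -/
theorem finite_isClosed_of_surface [IsLocallyNoetherian X'] [CompactSpace X']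
    (hdim : topologicalKrullDim X' ≤ 2) (s : S) (hs : IsClosed ({s} : Set S))
    (hgen : f (g (genericPoint X')) ≠ s) (hfib : ∀ x', g x' = g (genericPoint X') → x' = genericPoint X')
    (hs' : ∀ x : X, IsClosed ({x} : Set X) → f x = s) :
    {x : X | ¬ topologicalKrullDim ↥(g.fiber x) ≤ 0}.Finite ∧
      ∀ x : X, ¬ topologicalKrullDim ↥(g.fiber x) ≤ 0 → IsClosed ({x} : Set X) := by
  let η := genericPoint X'
  have hpair : ∀ x : X, ¬ topologicalKrullDim ↥(g.fiber x) ≤ 0 →
      ∃ z₁ z₀ : X', g z₁ = x ∧ g z₀ = x ∧ z₁ ⤳ z₀ ∧ z₁ ≠ z₀ ∧ η ≠ z₁ := fun x hx => by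
    by_contra hcon
    push Not at hcon
    refine hx (dim_le_zero_of_forall_eq fun a b hab => ?_)
    have key : ∀ a : g.fiber x, g ((g.fiberι x) a) = x := fun a => by
      have := Set.mem_range_self (f := g.fiberι x) a
      rwa [Scheme.Hom.range_fiberι] at this
    by_contra hne
    have hne' : (g.fiberι x) a ≠ (g.fiberι x) b := fun h => hne ((g.fiberι x).injective h)
    have h1 := hcon _ _ (key a) (key b) (hab.map (g.fiberι x).continuous) hne'
    exact hne' (h1.symm.trans (hfib _ ((key b).trans (((congrArg g h1).trans (key a)).symm))).symm)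
  have hno : ∀ a b c d : X', a ⤳ b → a ≠ b → b ⤳ c → b ≠ c → c ⤳ d → c ≠ d → False :=
    fun a b c d h1 h2 h3 h4 h5 h6 => absurd ((length_spec_le h1 h2 h3 h4 h5 h6).trans hdim) (by norm_cast)
  have hclosed : ∀ x : X, ¬ topologicalKrullDim ↥(g.fiber x) ≤ 0 → IsClosed ({x} : Set X) := fun x hx => by
    obtain ⟨z₁, z₀, h₁, h₀, hsp, hne, hη⟩ := hpair x hx
    refine isClosed_of_closure_subset fun x₀ hx₀ => ?_
    by_contra hxne
    have : x₀ ∈ g '' closure {z₀} := by
      refine closure_minimal (Set.singleton_subset_iff.2 ?_) ((g.isClosedMap _ isClosed_closure)) hx₀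
      exact ⟨z₀, subset_closure rfl, h₀⟩
    obtain ⟨w, hw, hgw⟩ := this
    exact hno η z₁ z₀ w (genericPoint_specializes z₁) hη hsp hne (specializes_iff_mem_closure.2 hw)
      (fun h => hxne (by rw [Set.mem_singleton_iff, ← hgw, ← h, h₀]))
  refine ⟨?_, hclosed⟩
  let F : Set X' := (g ≫ f) ⁻¹' {s}
  have hF : IsClosed F := hs.preimage (g ≫ f).continuous
  haveI : AlgebraicGeometry.IsNoetherian X' := { }
  haveI : NoetherianSpace X' := inferInstance
  obtain ⟨T, hTfin, hTc, hTi, hTu⟩ := NoetherianSpace.exists_finite_set_isClosed_irreducible hF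
  haveI := hTfin.to_subtype
  refine (Set.finite_range fun C : T => g (hTi C.1 C.2).genericPoint).subset fun x hx => ?_
  obtain ⟨z₁, z₀, h₁, h₀, hsp, hne, hη⟩ := hpair x hx
  have hz₁ : z₁ ∈ F := by
    show f (g z₁) = s
    rw [h₁]; exact hs' x (hclosed x hx)
  obtain ⟨C, hC, hzC⟩ := (hTu ▸ hz₁ : z₁ ∈ ⋃₀ T)
  have hgp := (hTi C hC).isGenericPoint_genericPoint_closure
  rw [(hTc C hC).closure_eq] at hgp
  refine ⟨⟨C, hC⟩, ?_⟩
  by_cases h : (hTi C hC).genericPoint = z₁
  · rw [← h₁, ← h]
  · have hcF : f (g (hTi C hC).genericPoint) = s :=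
      (show (hTi C hC).genericPoint ∈ F from hTu ▸ Set.mem_sUnion_of_mem hgp.mem hC)
    exact (hno η _ z₁ z₀ (genericPoint_specializes _) (fun e => hgen ((congrArg (fun z => f (g z)) e).trans hcF))
      (hgp.specializes hzC) h hsp hne).elim

open CurvLib DevissLib QCohLib in
/-- A coherent module supported on finitely many closed points is generated by its sections. -/
theorem isGloballyGenerated_of_finite_support (M : X.Modules)
    (hf : (CohB1.support M).Finite) (hc : ∀ x ∈ CohB1.support M, IsClosed ({x} : Set X)) :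
    Curv2.IsGloballyGenerated M := by
  refine ⟨Γ(M, ⊤), M.freeHomEquiv.symm fun s => toSections M s, ?_⟩
  refine Abelian.epi_of_cokernel_π_eq_zero _ ((isZero_of_support_empty
    (Set.eq_empty_of_forall_notMem fun x hx => notMem_support_cokernel _ x (fun a => ?_) hx)).eq_of_tgt _ _)
  obtain ⟨s, rfl⟩ := surjective_germ_of_finite_support M hf hc subset_rfl x a
  refine ⟨((St x).map (SheafOfModules.ιFree (R := X.ringCatSheaf) s)).hom
    (gm (Coh.structureModule X) x (show x ∈ (⊤ : X.Opens) from trivial) (1 : Γ(X, ⊤))), ?_⟩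
  refine (congrArg (fun g => g.hom (gm (Coh.structureModule X) x
    (show x ∈ (⊤ : X.Opens) from trivial) (1 : Γ(X, ⊤)))) (((St x).map_comp _ _).symm.trans
      (congrArg (St x).map (ιFree_comp (fun j : Γ(M, ⊤) => j) s)))).trans ?_
  refine (gm_app (unitHom M s) x (show x ∈ (⊤ : X.Opens) from trivial) _).trans
    (congrArg (gm M x (show x ∈ (⊤ : X.Opens) from trivial)) ?_)
  rw [unitHom_app, one_smul]
  exact toSections_top M s

end ModifLib
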