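import Mathlib
import Groth.Agent.ModifLib.Basic
import Groth.Agent.ModifLib.Norm
import Groth.Agent.ModifLib.Support
import Groth.Agent.BlowUpLib.Strict
import Groth.Agent.BlowUpLib.Exists
import Groth.Agent.BlowUpLib.Props
import Groth.Agent.BlowUpLib.Cartier
import Groth.Agent.LocFFLib.Norm
import Groth.Agent.LocFFLib.Basic
import Groth.Agent.RGFlatLib.ExtendGlobal
import Groth.Agent.AlgSpLib.ReducedStalk
import Groth.Agent.S4452
import Groth.Agent.S8910
import Groth.Agent.S9708
import Groth.Agent.S8859

/-! Normalized blow-ups of a normal integral scheme, and their restriction to a local scheme. -/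

set_option autoImplicit false
set_option linter.style.haveILetI false
universe u

open CategoryTheory AlgebraicGeometry Limits

namespace ModifLib

variable {X : Scheme.{u}}

/-- A normalized blow-up of a normal Nagata scheme in a nonzero ideal. -/
theorem exists_normalized_blowUp [IsIntegral X] [IsNoetherian X] [X.IsSeparated] (hn : Pi1.IsNormalScheme X)
    (hN : ∀ U : X.affineOpens, CAlg.IsNagata Γ(X, U.1)) (I : X.IdealSheafData) (hI : I ≠ ⊥) :
    ∃ (B X' : Scheme.{u}) (b : B ⟶ X) (ν : X' ⟶ B), BlowUp.IsBlowUp b I ∧ RelProj.IsProjective (ν ≫ b) ∧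
      IsIntegral X' ∧ Pi1.IsNormalScheme X' ∧
      ∃ U : X.Opens, (U : Set X).Nonempty ∧ IsIso ((ν ≫ b) ∣_ U) := by
  obtain ⟨B, b, hb⟩ := Groth.Agent.S8859.result X I
  obtain ⟨hint, -, -⟩ := BlowUpLib.isIntegral_of_isBlowUp hb hI
  have hft : BlowUp.IsFiniteTypeIdeal I := fun U => by
    haveI := IsLocallyNoetherian.component_noetherian U
    exact IsNoetherian.noetherian _
  haveI : IsProper b := BlowUpLib.isProper_of_isBlowUp hb hft
  haveI : IsLocallyNoetherian B := LocallyOfFiniteType.isLocallyNoetherian b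
  haveI : QuasiCompact (B.fromSpecStalk (genericPoint B)) := inferInstance
  haveI : QuasiSeparated (B.fromSpecStalk (genericPoint B)) := inferInstance
  have hN' : ∀ U : B.affineOpens, CAlg.IsNagata Γ(B, U.1) := isNagata_affineOpens b hN
  haveI := isFinite_normalizationι B hN'
  have hne : ∃ x : X, x ∉ (I.support : Set X) := by
    by_contra h
    push_neg at h
    exact hI (Scheme.IdealSheafData.support_eq_top_iff.mp (SetLike.ext fun x => iff_of_true (h x) trivial))
  obtain ⟨x, hx⟩ := hne
  obtain ⟨V, hxV, hVI⟩ := BlowUpLib.exists_affine x (W := I.support.compl) hx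
  haveI : IsIso (b ∣_ V.1) := EffCartLib.isIso_off_center I b hb V.1 hVI
  haveI : IsAffine (V.1 : Scheme.{u}) := V.2
  let W : B.affineOpens := ⟨b ⁻¹ᵁ V.1, IsAffine.of_isIso (b ∣_ V.1)⟩
  haveI : Nonempty V.1 := ⟨⟨x, hxV⟩⟩
  haveI : Nonempty W.1 := ⟨inv (b ∣_ V.1) ⟨x, hxV⟩⟩
  have hb' : IsIso (b.app V.1) := by
    have h : IsIso ((b ∣_ V.1).appTop) := (inferInstance : IsIso ((b ∣_ V.1).app ⊤))
    rw [morphismRestrict_appTop] at h
    have h2 : IsIso (b.app (V.1.ι ''ᵁ ⊤)) :=
      @IsIso.of_isIso_comp_right _ _ _ _ _ _ _ (@Functor.map_isIso _ _ _ _ _ _ _ _ (by infer_instance)) h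
    rwa [Scheme.Opens.ι_image_top] at h2
  have hWc : IsIntegrallyClosed Γ(B, W.1) :=
    haveI := LocFFLib.isIntegrallyClosed_sections hn V.1
    IsIntegrallyClosed.of_equiv (@asIso _ _ _ _ (b.app V.1) hb').commRingCatIsoToRingEquiv
  haveI : IsIso (Curv2.normalizationι B ∣_ (b ⁻¹ᵁ V.1)) := isIso_normalizationι_restrict B W hWc
  refine ⟨B, Curv2.normalization B, b, Curv2.normalizationι B, hb, ?_, inferInstance,
    LocFFLib.normalization_isNormal B, V.1, ⟨x, hxV⟩, ?_⟩
  · exact Groth.Agent.S9708.result _ b (Groth.Agent.S4452.result _) (Groth.Agent.S8910.result I hft b hb)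
  · rw [morphismRestrict_comp]
    exact IsIso.comp_isIso' (by assumption) (by assumption)

/-- An ideal on the spectrum of a local ring of a scheme extends to the scheme. -/
theorem exists_extend_stalk [IsLocallyNoetherian X] [QuasiSeparatedSpace X] (x : X) (J : (Spec (X.presheaf.stalk x)).IdealSheafData) :
    ∃ I : X.IdealSheafData, I.comap (X.fromSpecStalk x) = J := by
  obtain ⟨V, hxV, -⟩ := BlowUpLib.exists_affine x (W := ⊤) trivial
  obtain ⟨J₀, rfl⟩ := BlowUpLib.exists_specIdeal_eq (A := X.presheaf.stalk x) J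
  let φ := X.presheaf.germ V.1 x hxV
  letI : Algebra Γ(X, V.1) (X.presheaf.stalk x) := φ.hom.toAlgebra
  haveI : IsLocalization.AtPrime (X.presheaf.stalk x) (V.2.primeIdealOf ⟨x, hxV⟩).asIdeal :=
    V.2.isLocalization_stalk ⟨x, hxV⟩
  haveI : QuasiCompact V.2.fromSpec := inferInstance
  refine ⟨(BlowUpLib.specIdeal (A := Γ(X, V.1)) (J₀.comap φ.hom)).map V.2.fromSpec, ?_⟩
  have he : Spec.map φ ≫ V.2.fromSpec = X.fromSpecStalk x := IsAffineOpen.fromSpecStalk_eq_fromSpecStalk V.2 hxV
  rw [← he, Scheme.IdealSheafData.comap_comp]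
  refine (congrArg (fun K => Scheme.IdealSheafData.comap K (Spec.map φ))
    (@RGFlatLib.map_comap_of_isOpenImmersion _ _ V.2.fromSpec (IsAffineOpen.isOpenImmersion_fromSpec V.2) inferInstance _)).trans ?_
  refine (BlowUpLib.comap_specIdeal (A := Γ(X, V.1)) (B := X.presheaf.stalk x) φ.hom _).trans ?_
  exact congrArg _ (IsLocalization.map_comap (V.2.primeIdealOf ⟨x, hxV⟩).asIdeal.primeCompl _ J₀)

/-- The restriction of a normal integral scheme to a local scheme of the base is normal and integral. -/
theorem normal_pullback_stalk {W : Scheme.{u}} [IsIntegral W] (hn : Pi1.IsNormalScheme W) (g : W ⟶ X) (x : X)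
    (hx : g (genericPoint W) ⤳ x) :
    IsIntegral (pullback g (X.fromSpecStalk x)) ∧ Pi1.IsNormalScheme (pullback g (X.fromSpecStalk x)) := by
  let q := pullback.fst g (X.fromSpecStalk x)
  haveI := AlgSpLib.flat_fromSpecStalk x
  haveI : Flat q := inferInstance
  haveI : IsPreimmersion q := inferInstance
  have hst : ∀ p, Function.Bijective (q.stalkMap p).hom := fun p => by
    refine ⟨?_, (q.stalkMap_surjective p)⟩
    have hf : (q.stalkMap p).hom.Flat := Flat.stalkMap q p
    letI := (q.stalkMap p).hom.toAlgebra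
    haveI : Module.Flat (W.presheaf.stalk (q p)) ((pullback g (X.fromSpecStalk x)).presheaf.stalk p) := hf
    haveI : IsLocalHom (algebraMap (W.presheaf.stalk (q p)) ((pullback g (X.fromSpecStalk x)).presheaf.stalk p)) :=
      inferInstanceAs (IsLocalHom (q.stalkMap p).hom)
    haveI := Module.FaithfullyFlat.of_flat_of_isLocalHom (A := W.presheaf.stalk (q p))
      (B := (pullback g (X.fromSpecStalk x)).presheaf.stalk p)
    exact FaithfulSMul.algebraMap_injective _ _
  have hnp : Pi1.IsNormalScheme (pullback g (X.fromSpecStalk x)) := fun p => by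
    let e := RingEquiv.ofBijective _ (hst p)
    haveI := (hn (q p)).1
    haveI := (hn (q p)).2
    exact ⟨e.symm.injective.isDomain e.symm.toRingHom, IsIntegrallyClosed.of_equiv e⟩
  haveI : _root_.AlgebraicGeometry.IsReduced (pullback g (X.fromSpecStalk x)) :=
    @isReduced_of_isReduced_stalk _ fun p => haveI := (hnp p).1; inferInstance
  obtain ⟨η, hη, -⟩ := Scheme.Pullback.exists_preimage_pullback (f := g) (g := X.fromSpecStalk x) (genericPoint W)
    (by
      have : g (genericPoint W) ∈ Set.range (X.fromSpecStalk x) := by rw [Scheme.range_fromSpecStalk]; exact hx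
      exact this.choose) (by
      have : g (genericPoint W) ∈ Set.range (X.fromSpecStalk x) := by rw [Scheme.range_fromSpecStalk]; exact hx
      exact this.choose_spec.symm)
  haveI : IrreducibleSpace ↥(pullback g (X.fromSpecStalk x)) := by
    have hd : closure {η} = Set.univ := by
      refine Set.eq_univ_of_forall fun p => specializes_iff_mem_closure.1 ?_
      rw [← q.isEmbedding.isInducing.specializes_iff, hη]
      exact genericPoint_specializes _
    exact { isPreirreducible_univ := hd ▸ (isIrreducible_singleton.closure).2, toNonempty := ⟨η⟩ }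
  exact ⟨isIntegral_of_irreducibleSpace_of_isReduced _, hnp⟩

end ModifLib
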