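import Mathlib
import Groth.Prelude.Def_Curv2
import Groth.Agent.BlowUpLib.Cartier
import Groth.Agent.BlowUpLib.Exists

/-! Ideals cofinite at the closed point descend from the completion. -/

set_option autoImplicit false
set_option backward.isDefEq.respectTransparency false
universe u

open AlgebraicGeometry CategoryTheory TopologicalSpace IsLocalRing

namespace ModifLib

variable {A : Type u} [CommRing A] [IsLocalRing A] [IsNoetherianRing A]

theorem map_comap_cpl (J : Ideal (Curv2.cpl A)) (n : ℕ)
    (hn : (maximalIdeal A ^ n).map (algebraMap A (Curv2.cpl A)) ≤ J) :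
    (J.comap (algebraMap A (Curv2.cpl A))).map (algebraMap A (Curv2.cpl A)) = J := by
  refine le_antisymm Ideal.map_comap_le fun x hx => ?_
  obtain ⟨a, ha⟩ := Submodule.mkQ_surjective _ (AdicCompletion.eval (maximalIdeal A) A n x)
  have h : x - algebraMap A (Curv2.cpl A) a ∈
      (maximalIdeal A ^ n • (⊤ : Submodule A (Curv2.cpl A))) := by
    rw [AdicCompletion.pow_smul_top_eq_ker_eval (maximalIdeal A).fg_of_isNoetherianRing, LinearMap.mem_ker,
      map_sub, ← ha, sub_eq_zero]
    rfl
  rw [Ideal.smul_top_eq_map, Submodule.restrictScalars_mem] at h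
  have haJ : algebraMap A (Curv2.cpl A) a ∈ J := by
    have := J.sub_mem hx (hn h)
    rwa [sub_sub_cancel] at this
  have hle : (maximalIdeal A ^ n).map (algebraMap A (Curv2.cpl A)) ≤
      (J.comap (algebraMap A (Curv2.cpl A))).map (algebraMap A (Curv2.cpl A)) :=
    Ideal.map_mono (Ideal.map_le_iff_le_comap.1 hn)
  have := Ideal.add_mem _ (hle h) (Ideal.mem_map_of_mem (algebraMap A (Curv2.cpl A)) (show a ∈ J.comap _ from haJ))
  rwa [sub_add_cancel] at this

theorem coe_support_specIdeal {R : Type u} [CommRing R] (I : Ideal R) :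
    ((BlowUpLib.specIdeal I).support : Set (Spec (CommRingCat.of R))) = PrimeSpectrum.zeroLocus (I : Set R) := by
  unfold BlowUpLib.specIdeal
  rw [Scheme.IdealSheafData.coe_support_ofIdealTop, Spec_zeroLocus, ← Ideal.coe_comap]
  exact congrArg (fun K : Ideal R => PrimeSpectrum.zeroLocus (K : Set R))
    (Ideal.comap_map_of_bijective _ (ConcreteCategory.bijective_of_isIso _))

theorem exists_pow_le_of_disjoint {R : Type u} [CommRing R] [IsLocalRing R] [IsNoetherianRing R] (J : Ideal R)
    (h : Disjoint ((BlowUpLib.specIdeal J).support : Set (Spec (CommRingCat.of R)))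
      (FEt.puncturedSpec R : Set (Spec (CommRingCat.of R)))) :
    ∃ n, maximalIdeal R ^ n ≤ J := by
  refine Ideal.exists_pow_le_of_le_radical_of_fg ?_ (maximalIdeal R).fg_of_isNoetherianRing
  rw [Ideal.radical_eq_sInf]
  refine le_sInf fun P hP => ?_
  have hmem : (⟨P, hP.2⟩ : PrimeSpectrum R) ∈ ((BlowUpLib.specIdeal J).support : Set (Spec (CommRingCat.of R))) := by
    rw [coe_support_specIdeal]; exact hP.1
  have he : (⟨P, hP.2⟩ : PrimeSpectrum R) = closedPoint R := by
    by_contra hne
    exact Set.disjoint_left.1 h hmem hne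
  exact le_of_eq (congrArg PrimeSpectrum.asIdeal he).symm

theorem disjoint_of_pow_le {R : Type u} [CommRing R] [IsLocalRing R] (J : Ideal R) (n : ℕ)
    (hn : maximalIdeal R ^ n ≤ J) :
    Disjoint ((BlowUpLib.specIdeal J).support : Set (Spec (CommRingCat.of R)))
      (FEt.puncturedSpec R : Set (Spec (CommRingCat.of R))) := by
  rw [coe_support_specIdeal]
  refine Set.disjoint_left.2 fun (q : PrimeSpectrum R) hq hne => hne ?_
  refine PrimeSpectrum.ext (le_antisymm (le_maximalIdeal q.2.ne_top) ?_)
  exact fun x hx => q.2.mem_of_pow_mem n ((hn.trans hq) (Ideal.pow_mem_pow hx n))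

end ModifLib
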